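import Cfsg.Agent.H591.QuotDefect
import Cfsg.Agent.Blocks.Fong
import Cfsg.Agent.Blocks.Deflate
import Cfsg.Agent.S0907
import Cfsg.Agent.S0912

/-!
# Blocks of the quotient by a normal `p`-subgroup

* `sum_coset_mul_one`: coset sums of an irreducible character over a normal subgroup.
* `infl`: inflation of irreducible characters; `inflSet B`: the irreducible characters of `G ⧸ N`
  inflating into `B`.
* `sum_blockCoeff_coset`: the image in the group algebra of `G ⧸ N` of the block idempotent of `B`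
  is the idempotent of `inflSet B`.
* `inflSet_union`: `inflSet B` is a union of blocks.
* `exists_block`: for a normal `p`-subgroup `N`, every block of `G` contains a block of `G ⧸ N`
  with idempotent coefficient a unit at the image of a defect class.
-/

set_option autoImplicit false
open Cfsg
open scoped ComplexConjugate

namespace Cfsg.Agent.H591.QuotPSub

open Cfsg.Agent.Blocks.Local Cfsg.Agent.Blocks.Basic Cfsg.Agent.H591.QuotDefect

variable {G : Type*} [Group G]

theorem sum_coset_mul_one {χ : G → ℂ} (hχ : IsIrrCharacter G χ) (K : Subgroup G)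
    [hK : K.Normal] [Fintype K] (x : G) :
    (∑ n : K, χ (x * n)) * χ 1 = χ x * ∑ n : K, χ n := by
  obtain ⟨n, ρ, hρ, rfl⟩ := hχ
  set f : Module.End ℂ (Fin n → ℂ) := ∑ x : K, ρ (x : G) with hf
  have hcomm : ∀ g, f * ρ g = ρ g * f := by
    intro g
    rw [hf, Finset.sum_mul, Finset.mul_sum]
    refine Fintype.sum_equiv (MulAut.conjNormal (g⁻¹) : K ≃* K).toEquiv _ _ fun x => ?_
    rw [← map_mul, ← map_mul]
    congr 1
    simp only [MulEquiv.toEquiv_eq_coe, EquivLike.coe_coe, MulAut.conjNormal_apply, inv_inv]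
    group
  have hsc := Cfsg.Agent.Characters.Central.eq_trace_smul_of_comm ρ hρ f hcomm
  have h1 : ρ.character 1 ≠ 0 := Cfsg.Agent.Characters.Central.char_one_ne_zero ρ hρ
  have htr : LinearMap.trace ℂ (Fin n → ℂ) f = ∑ x : K, ρ.character x := by
    rw [hf, map_sum]
    rfl
  have h2 : LinearMap.trace ℂ (Fin n → ℂ) (ρ x * f) = ∑ m : K, ρ.character (x * m) := by
    rw [hf, Finset.mul_sum, map_sum]
    refine Finset.sum_congr rfl fun m _ => ?_
    rw [← map_mul]
    rfl
  rw [← h2, ← htr]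
  conv_lhs => rw [hsc]
  rw [mul_smul_comm, mul_one, map_smul, smul_eq_mul]
  have h3 : LinearMap.trace ℂ (Fin n → ℂ) (ρ x) = ρ.character x := rfl
  rw [h3]
  field_simp

/-- Inflation of an irreducible character. -/
noncomputable def infl (N : Subgroup G) [N.Normal] (χ : IrrCharacter (G ⧸ N)) : IrrCharacter G :=
  ⟨(χ : G ⧸ N → ℂ) ∘ QuotientGroup.mk, Cfsg.Agent.Characters.Core.isIrr_comp (QuotientGroup.mk' N)
      (QuotientGroup.mk'_surjective N) χ.2⟩

theorem infl_apply (N : Subgroup G) [N.Normal] (χ : IrrCharacter (G ⧸ N)) (g : G) :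
    (infl N χ : G → ℂ) g = (χ : G ⧸ N → ℂ) (QuotientGroup.mk g) := rfl

theorem infl_injective (N : Subgroup G) [N.Normal] : Function.Injective (infl N) := by
  intro χ ψ h
  apply Subtype.ext
  funext q
  obtain ⟨g, rfl⟩ := QuotientGroup.mk_surjective q
  have := congrFun (congrArg Subtype.val h) g
  exact this

/-- The irreducible characters of `G ⧸ N` inflating into `B`. -/
def inflSet (N : Subgroup G) [N.Normal] (B : Set (IrrCharacter G)) : Set (IrrCharacter (G ⧸ N)) :=
  {χ | infl N χ ∈ B}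

theorem mem_inflSet (N : Subgroup G) [N.Normal] (B : Set (IrrCharacter G))
    (χ : IrrCharacter (G ⧸ N)) : χ ∈ inflSet N B ↔ infl N χ ∈ B := Iff.rfl

/-- Either `χ` is inflated from `G ⧸ N` or all its coset sums vanish. -/
theorem exists_infl_or [Finite G] (N : Subgroup G) [N.Normal] [Fintype N] (χ : IrrCharacter G) :
    (∃ χ' : IrrCharacter (G ⧸ N), χ = infl N χ') ∨ ∀ x : G, ∑ n : N, (χ : G → ℂ) (x * n) = 0 := by
  by_cases h : ∑ n : N, (χ : G → ℂ) n = 0
  · right
    intro x
    have h1 := sum_coset_mul_one χ.2 N x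
    rw [h, mul_zero] at h1
    exact (mul_eq_zero.1 h1).resolve_right (irr_one_ne_zero χ.2)
  · left
    obtain ⟨χ', hχ'⟩ := Cfsg.Agent.Blocks.Deflate.exists_deflation N (χ : G → ℂ) χ.2 h
    exact ⟨χ', Subtype.ext hχ'⟩

theorem sum_infl_coset (N : Subgroup G) [N.Normal] [Fintype N] (χ : IrrCharacter (G ⧸ N)) (x : G) :
    ∑ n : N, (infl N χ : G → ℂ) (x * n) = (Nat.card N : ℂ) * (χ : G ⧸ N → ℂ) (QuotientGroup.mk x) := by
  have h : ∀ n : N, (infl N χ : G → ℂ) (x * n) = (χ : G ⧸ N → ℂ) (QuotientGroup.mk x) := by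
    intro n
    rw [infl_apply]
    congr 1
    rw [QuotientGroup.mk_mul, (QuotientGroup.eq_one_iff (n : G)).2 n.2, mul_one]
  rw [Finset.sum_congr rfl (fun n _ => h n), Finset.sum_const, Finset.card_univ, nsmul_eq_mul,
    Nat.card_eq_fintype_card]

/-- The image of the block idempotent of `B` in the group algebra of `G ⧸ N`. -/
theorem sum_blockCoeff_coset [Finite G] (N : Subgroup G) [N.Normal] [Fintype N]
    (B : Set (IrrCharacter G)) (x : G) :
    ∑ n : N, blockCoeff B (x * n) = blockCoeff (inflSet N B) (QuotientGroup.mk x) := by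
  classical
  have := Cfsg.Agent.Characters.Core.finite_irr (G := G)
  have := Fintype.ofFinite (IrrCharacter G)
  have := Cfsg.Agent.Characters.Core.finite_irr (G := G ⧸ N)
  have := Fintype.ofFinite (IrrCharacter (G ⧸ N))
  have hc : (Nat.card G : ℂ) = (Nat.card N : ℂ) * (Nat.card (G ⧸ N) : ℂ) := by
    rw [← Nat.cast_mul, ← Subgroup.card_mul_index N]
    rfl
  have hN0 : (Nat.card N : ℂ) ≠ 0 := by exact_mod_cast (Nat.card_pos (α := N)).ne'
  have e1 : ∀ g : G, blockCoeff B g = (Nat.card G : ℂ)⁻¹ *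
      ∑ χ : IrrCharacter G, if χ ∈ B then (χ : G → ℂ) 1 * conj ((χ : G → ℂ) g) else 0 := by
    intro g
    rw [Cfsg.Agent.Blocks.Fong.blockCoeff_eq_sum, Finset.sum_filter]
  have e2 : ∀ χ : IrrCharacter G,
      ∑ n : N, (if χ ∈ B then (χ : G → ℂ) 1 * conj ((χ : G → ℂ) (x * n)) else 0) =
      if χ ∈ B then (χ : G → ℂ) 1 * conj (∑ n : N, (χ : G → ℂ) (x * n)) else 0 := by
    intro χ
    split_ifs
    · rw [map_sum, Finset.mul_sum]
    · simp
  rw [Finset.sum_congr rfl (fun n _ => e1 _), ← Finset.mul_sum, Finset.sum_comm,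
    Finset.sum_congr rfl (fun χ _ => e2 χ), Cfsg.Agent.Blocks.Fong.blockCoeff_eq_sum,
    Finset.sum_filter]
  rw [← Finset.sum_subset (s₁ := (Finset.univ : Finset (IrrCharacter (G ⧸ N))).map
    ⟨infl N, infl_injective N⟩) (Finset.subset_univ _), Finset.sum_map]
  · rw [hc, mul_inv, mul_comm (Nat.card N : ℂ)⁻¹, mul_assoc, Finset.mul_sum]
    congr 1
    refine Finset.sum_congr rfl fun χ _ => ?_
    simp only [Function.Embedding.coeFn_mk]
    by_cases h : infl N χ ∈ B
    · rw [if_pos h, if_pos ((mem_inflSet N B χ).2 h), sum_infl_coset, map_mul, Complex.conj_natCast,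
        infl_apply, QuotientGroup.mk_one]
      field_simp
    · rw [if_neg h, if_neg (fun h' => h ((mem_inflSet N B χ).1 h')), mul_zero]
  · intro χ _ hχ
    have h0 : ∀ x : G, ∑ n : N, (χ : G → ℂ) (x * n) = 0 := by
      rcases exists_infl_or N χ with ⟨χ', rfl⟩ | h
      · exact absurd (Finset.mem_map_of_mem _ (Finset.mem_univ χ')) hχ
      · exact h
    rw [h0, map_zero, mul_zero, ite_self]

/-- Blocks of `G ⧸ N` inflate into blocks of `G`. -/
theorem sameBlock_infl [Finite G] {M : Ideal AlgInt} [M.IsPrime] (N : Subgroup G) [N.Normal]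
    {χ ψ : IrrCharacter (G ⧸ N)} (h : SameBlock M (χ : G ⧸ N → ℂ) (ψ : G ⧸ N → ℂ)) :
    SameBlock M (infl N χ : G → ℂ) (infl N ψ : G → ℂ) := by
  intro g
  show MemLocalIdeal M (centralChar ((χ : G ⧸ N → ℂ) ∘ QuotientGroup.mk) g -
    centralChar ((ψ : G ⧸ N → ℂ) ∘ QuotientGroup.mk) g)
  rw [centralChar_inflate, centralChar_inflate, ← mul_sub]
  exact memLocalIdeal_mul_left (memLocalRing_natCast _) (h _)

/-- `inflSet N B` is a union of blocks. -/
theorem inflSet_union [Finite G] {M : Ideal AlgInt} [M.IsPrime] (N : Subgroup G) [N.Normal]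
    {B : Set (IrrCharacter G)} (hB : IsPBlock M B) {χ : IrrCharacter (G ⧸ N)}
    (hχ : χ ∈ inflSet N B) : blockOf M (χ : G ⧸ N → ℂ) ⊆ inflSet N B := by
  intro ψ hψ
  exact isPBlock_mem_of_sameBlock hB hχ (sameBlock_infl N hψ)

/-- A defect class consists of `p`-regular elements. -/
theorem not_dvd_orderOf_of_blockCoeff [Finite G] {p : ℕ} [Fact p.Prime] {M : Ideal AlgInt}
    (hM : IsPModular p M) {B : Set (IrrCharacter G)} (hB : IsPBlock M B) {g : G}
    (hg : blockCoeff B g ≠ 0) : ¬ p ∣ orderOf g := by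
  intro hd
  apply hg
  rw [blockCoeff_def, Cfsg.Agent.S0907.result p M hM B hB 1 g (by
    rw [orderOf_one]; exact (Fact.out : p.Prime).one_lt.ne' ∘ Nat.dvd_one.1) hd, mul_zero]

/-- The coset sum of the block idempotent over a normal `p`-subgroup centralized by the
`p`-regular element `g`. -/
theorem sum_blockCoeff_of_centralizes [Finite G] {p : ℕ} [Fact p.Prime] {M : Ideal AlgInt}
    (hM : IsPModular p M) {B : Set (IrrCharacter G)} (hB : IsPBlock M B) (N : Subgroup G)
    [Fintype N] (hN : IsPGroup p N) {g : G}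
    (hNg : N ≤ Subgroup.centralizer ({g} : Set G)) (hg : ¬ p ∣ orderOf g) :
    ∑ n : N, blockCoeff B (g * n) = blockCoeff B g := by
  classical
  rw [Finset.sum_eq_single (1 : N)]
  · simp
  · intro n _ hn
    by_contra h0
    apply not_dvd_orderOf_of_blockCoeff hM hB h0
    have hc : Commute g (n : G) := by
      have := Subgroup.mem_centralizer_singleton_iff.1 (hNg n.2)
      exact this.symm
    have hn1 : orderOf (n : G) ≠ 1 := by
      rw [Ne, orderOf_eq_one_iff]
      intro h
      exact hn (Subtype.ext h)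
    obtain ⟨k, hk⟩ := (IsPGroup.iff_orderOf.1 hN) n
    have hk' : orderOf (n : G) = p ^ k := by rw [← hk, Subgroup.orderOf_coe]
    have hcop : Nat.Coprime (orderOf g) (orderOf (n : G)) := by
      rw [hk']
      exact Nat.Coprime.pow_right k ((Nat.Prime.coprime_iff_not_dvd (Fact.out : p.Prime)).2 hg).symm
    rw [hc.orderOf_mul_eq_mul_orderOf_of_coprime hcop]
    refine Dvd.dvd.mul_left ?_ _
    rw [hk']
    rcases Nat.eq_zero_or_pos k with h | h
    · rw [hk', h, pow_zero] at hn1
      exact absurd rfl hn1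
    · exact dvd_pow_self p h.ne'
  · intro h
    exact absurd (Finset.mem_univ _) h

theorem le_pCore {p : ℕ} (N : Subgroup G) [hN : N.Normal] (hp : IsPGroup p N) :
    N ≤ Cfsg.pCore p G := by
  unfold Cfsg.pCore
  exact le_sSup ⟨hN, hp⟩

end Cfsg.Agent.H591.QuotPSub
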