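import Cfsg.Agent.H591.Reynolds
import Cfsg.Agent.S0964
import Cfsg.Agent.S0933

/-!
# The Fong–Reynolds correspondence

`N` normal in the finite group `G`, `b` a block of `N` with stabilizer `T ≥ N` in `G`.

* `over_of_mem`: all constituents on `N` of the characters of a block of `T` covering `b` are in `b`.
* `induced_unique`: the block induced by a block is unique.
* `exists_induced`, `mem_induced_iff`, `covered_inj`, `exists_covered`: the correspondence.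
-/

set_option autoImplicit false

open Cfsg
open scoped ComplexConjugate

namespace Cfsg.Agent.H591.ReynoldsMain

open Cfsg.Agent.Characters.Core Cfsg.Agent.OddOrderCharacters.IndRes
  Cfsg.Agent.OddOrderCharacters.NormalInduced Cfsg.Agent.OddOrderCharacters
open Cfsg.Agent.OddOrderCharacters.PF9.CliffGen (inertia mem_inertia le_inertia resTo resTo_apply
  down classInner_down indFun_down resTo_res)
open Cfsg.Agent.Blocks.Covering (conjIrr conjIrr_apply conjIrr_conjIrr conjIrr_one conjIrr_at_one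
  sameBlock_conjIrr)
open Cfsg.Agent.H591.Reynolds

universe u

section

variable {G : Type u} [Group G] {N T : Subgroup G} {M : Ideal AlgInt}

/-- Transport of a set of irreducible characters of `N` to `N.subgroupOf T`. -/
def downSet (hNT : N ≤ T) (b : Set (IrrCharacter N)) : Set (IrrCharacter (N.subgroupOf T)) :=
  {η | (⟨Cliff.up hNT (η : N.subgroupOf T → ℂ), Cliff.isIrr_up hNT η.2⟩ : IrrCharacter N) ∈ b}

theorem centralChar_down (hNT : N ≤ T) (θ : N → ℂ) (h : N.subgroupOf T) :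
    centralChar (down N T θ) h = centralChar θ (Subgroup.subgroupOfEquivOfLe hNT h) :=
  Blocks.Covering.centralChar_comp_equiv (Subgroup.subgroupOfEquivOfLe hNT) θ h

theorem sameBlock_down_iff (hNT : N ≤ T) (θ θ' : N → ℂ) :
    SameBlock M (down N T θ) (down N T θ') ↔ SameBlock M θ θ' := by
  constructor
  · intro h n
    have := h ((Subgroup.subgroupOfEquivOfLe hNT).symm n)
    rwa [centralChar_down hNT, centralChar_down hNT, MulEquiv.apply_symm_apply] at this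
  · intro h n
    rw [centralChar_down hNT, centralChar_down hNT]
    exact h _

theorem isPBlock_downSet (hNT : N ≤ T) {b : Set (IrrCharacter N)} (hb : IsPBlock M b) :
    IsPBlock M (downSet hNT b) := by
  obtain ⟨θ, rfl⟩ := hb
  refine ⟨⟨down N T (θ : N → ℂ), Cliff.isIrr_down hNT θ.2⟩, ?_⟩
  ext η
  have : (η : N.subgroupOf T → ℂ) = down N T (Cliff.up hNT (η : N.subgroupOf T → ℂ)) := rfl
  show SameBlock M (θ : N → ℂ) (Cliff.up hNT (η : N.subgroupOf T → ℂ)) ↔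
    SameBlock M (down N T (θ : N → ℂ)) (η : N.subgroupOf T → ℂ)
  rw [this, sameBlock_down_iff hNT]
  rfl

end

/-- The block induced by a block is unique. -/
theorem induced_unique {G : Type u} [Group G] {M : Ideal AlgInt} [M.IsPrime] {H : Subgroup G}
    {b : Set (IrrCharacter H)} {B B' : Set (IrrCharacter G)} (h : IsInducedBlock M H b B)
    (h' : IsInducedBlock M H b B') : B = B' := by
  obtain ⟨ξ, hξ⟩ := Blocks.Basic.isPBlock_nonempty h.1
  obtain ⟨χ, hχ⟩ := Blocks.Basic.isPBlock_nonempty h.2.1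
  obtain ⟨χ', hχ'⟩ := Blocks.Basic.isPBlock_nonempty h'.2.1
  refine Blocks.Basic.isPBlock_eq_of_sameBlock h.2.1 h'.2.1 hχ hχ' fun g => ?_
  exact Blocks.Local.memLocalIdeal_sub_trans
    (Blocks.Local.memLocalIdeal_sub_comm (h.2.2 ξ hξ χ hχ g)) (h'.2.2 ξ hξ χ' hχ' g)

section main

variable {G : Type u} [Group G] [Fintype G] {N T : Subgroup G} [hN : N.Normal] [Fintype N]
  [Fintype T] {M : Ideal AlgInt} {b : Set (IrrCharacter N)}

/-- The constituents on `N` of the characters of a block of `T` covering `b` are in `b`. -/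
theorem over_of_mem (p : ℕ) [Fact p.Prime] (hM : IsPModular p M) (hb : IsPBlock M b)
    (hst : IsStab b T) (hNT : N ≤ T) {B' : Set (IrrCharacter T)} (hB' : IsPBlock M B')
    {ψ₀ : IrrCharacter T} (hψ₀ : ψ₀ ∈ B') {θ₀ : IrrCharacter N} (hθ₀ : θ₀ ∈ b)
    (h₀ : classInner (resTo hNT (ψ₀ : T → ℂ)) (θ₀ : N → ℂ) ≠ 0) {ψ : IrrCharacter T}
    (hψ : ψ ∈ B') {θ : IrrCharacter N} (h : classInner (resTo hNT (ψ : T → ℂ)) (θ : N → ℂ) ≠ 0) :
    θ ∈ b := by
  classical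
  have hprime : M.IsPrime := Blocks.Local.isPrime_of_isPModular hM
  have : Fintype (N.subgroupOf T) := Fintype.ofFinite _
  have e1 : classInner (res (N.subgroupOf T) (ψ₀ : T → ℂ)) (down N T (θ₀ : N → ℂ)) ≠ 0 := by
    rw [Cliff.classInner_down_res hNT]
    exact h₀
  have e2 : classInner (res (N.subgroupOf T) (ψ : T → ℂ)) (down N T (θ : N → ℂ)) ≠ 0 := by
    rw [Cliff.classInner_down_res hNT]
    exact h
  obtain ⟨g, η, hη, h1⟩ := Cfsg.Agent.S0964.result p M hM (N.subgroupOf T) B' hB'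
    (downSet hNT b) (isPBlock_downSet hNT hb) ψ₀ hψ₀
    ⟨down N T (θ₀ : N → ℂ), Cliff.isIrr_down hNT θ₀.2⟩ hθ₀ e1 ψ hψ
    ⟨down N T (θ : N → ℂ), Cliff.isIrr_down hNT θ.2⟩ e2
  have h2 : θ = conjIrr N (g : G)
      ⟨Cliff.up hNT (η : N.subgroupOf T → ℂ), Cliff.isIrr_up hNT η.2⟩ := by
    apply Subtype.ext
    funext n
    rw [conjIrr_apply, conjNormal_eq]
    exact h1 ⟨⟨n, hNT n.2⟩, Subgroup.mem_subgroupOf.mpr n.2⟩
  rw [h2]
  exact (hst.mem_iff (g : G)).1 g.2 _ hη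

/-- A block `B'` of `T` covering `b` induces the block of `Ind ψ`, `ψ ∈ B'`. -/
theorem isInducedBlock_ind (p : ℕ) [Fact p.Prime] (hM : IsPModular p M) (hb : IsPBlock M b)
    (hst : IsStab b T) (hNT : N ≤ T) {B' : Set (IrrCharacter T)} (hB' : IsPBlock M B')
    {ψ₀ : IrrCharacter T} (hψ₀ : ψ₀ ∈ B') {θ₀ : IrrCharacter N} (hθ₀ : θ₀ ∈ b)
    (h₀ : classInner (resTo hNT (ψ₀ : T → ℂ)) (θ₀ : N → ℂ) ≠ 0) {ψ : IrrCharacter T}
    (hψ : ψ ∈ B') :
    IsIrrCharacter G (indFun T (ψ : T → ℂ)) ∧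
      IsInducedBlock M T B' (blockOf M (indFun T (ψ : T → ℂ))) := by
  have hprime : M.IsPrime := Blocks.Local.isPrime_of_isPModular hM
  obtain ⟨θ, hθ⟩ := exists_over hNT ψ.2
  have h1 := over_of_mem p hM hb hst hNT hB' hψ₀ hθ₀ h₀ hψ hθ
  have h2 := irr_ind hb hst hNT ψ.2 h1 hθ
  refine ⟨h2, ?_⟩
  have h3 := Cfsg.Agent.S0933.result p M hM T ψ h2
  rwa [← Blocks.Basic.isPBlock_eq_blockOf hB' hψ] at h3

/-- Every irreducible character of `G` over `b` is induced from a character of `T` over `b`. -/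
theorem exists_ind (hprime : M.IsPrime) (hb : IsPBlock M b)
    (hst : IsStab b T) (hNT : N ≤ T) {χ : IrrCharacter G} {θ : IrrCharacter N} (hθ : θ ∈ b)
    (h : classInner (res N (χ : G → ℂ)) (θ : N → ℂ) ≠ 0) :
    ∃ ψ : IrrCharacter T, classInner (resTo hNT (ψ : T → ℂ)) (θ : N → ℂ) ≠ 0 ∧
      (χ : G → ℂ) = indFun T (ψ : T → ℂ) := by
  obtain ⟨ψ, hψ, h1, h2⟩ := Cliff.exists_ind θ.2
    (fun g hg => hst.inertia_le hb hθ g hg) hNT χ.2 h
  exact ⟨⟨ψ, hψ⟩, h1, h2⟩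

/-- Injectivity. -/
theorem covered_inj (p : ℕ) [Fact p.Prime] (hM : IsPModular p M) (hb : IsPBlock M b)
    (hst : IsStab b T) (hNT : N ≤ T) {B₁ B₂ : Set (IrrCharacter T)} (hB₁ : IsPBlock M B₁)
    (hB₂ : IsPBlock M B₂)
    {ψ₁ : IrrCharacter T} (hψ₁ : ψ₁ ∈ B₁) {θ₁ : IrrCharacter N} (hθ₁ : θ₁ ∈ b)
    (h₁ : classInner (resTo hNT (ψ₁ : T → ℂ)) (θ₁ : N → ℂ) ≠ 0)
    {ψ₂ : IrrCharacter T} (hψ₂ : ψ₂ ∈ B₂) {θ₂ : IrrCharacter N} (hθ₂ : θ₂ ∈ b)
    (h₂ : classInner (resTo hNT (ψ₂ : T → ℂ)) (θ₂ : N → ℂ) ≠ 0)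
    {B : Set (IrrCharacter G)} (hi₁ : IsInducedBlock M T B₁ B) (hi₂ : IsInducedBlock M T B₂ B) :
    B₁ = B₂ := by
  have hprime : M.IsPrime := Blocks.Local.isPrime_of_isPModular hM
  obtain ⟨hirr₁, hj₁⟩ := isInducedBlock_ind p hM hb hst hNT hB₁ hψ₁ hθ₁ h₁ hψ₁
  obtain ⟨hirr₂, hj₂⟩ := isInducedBlock_ind p hM hb hst hNT hB₂ hψ₂ hθ₂ h₂ hψ₂
  have e1 := induced_unique hi₁ hj₁
  have e2 := induced_unique hi₂ hj₂
  have h3 : SameBlock M (indFun T (ψ₁ : T → ℂ)) (indFun T (ψ₂ : T → ℂ)) := by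
    have h4 : (⟨_, hirr₂⟩ : IrrCharacter G) ∈ blockOf M (indFun T (ψ₁ : T → ℂ)) := by
      rw [← e1, e2]
      exact Blocks.Basic.mem_blockOf_self (⟨_, hirr₂⟩ : IrrCharacter G)
    exact h4
  exact Blocks.Basic.isPBlock_eq_of_sameBlock hB₁ hB₂ hψ₁ hψ₂
    (sameBlock_of_ind p hM hb hst hNT ψ₁.2 ψ₂.2 hθ₁ hθ₂ h₁ h₂ h3)

/-- The members of the induced block. -/
theorem mem_induced_iff (p : ℕ) [Fact p.Prime] (hM : IsPModular p M) (hb : IsPBlock M b)
    (hst : IsStab b T) (hNT : N ≤ T) {B' : Set (IrrCharacter T)} (hB' : IsPBlock M B')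
    {ψ₀ : IrrCharacter T} (hψ₀ : ψ₀ ∈ B') {θ₀ : IrrCharacter N} (hθ₀ : θ₀ ∈ b)
    (h₀ : classInner (resTo hNT (ψ₀ : T → ℂ)) (θ₀ : N → ℂ) ≠ 0)
    {B : Set (IrrCharacter G)} (hi : IsInducedBlock M T B' B) (χ : IrrCharacter G) :
    χ ∈ B ↔ ∃ ψ ∈ B', (χ : G → ℂ) = indFun T (ψ : T → ℂ) := by
  have hprime : M.IsPrime := Blocks.Local.isPrime_of_isPModular hM
  obtain ⟨hirr₀, hj₀⟩ := isInducedBlock_ind p hM hb hst hNT hB' hψ₀ hθ₀ h₀ hψ₀
  have e0 := induced_unique hi hj₀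
  have hmem₀ : (⟨_, hirr₀⟩ : IrrCharacter G) ∈ B := by
    rw [e0]
    exact Blocks.Basic.mem_blockOf_self (⟨_, hirr₀⟩ : IrrCharacter G)
  have hcov₀ : classInner (res N (indFun T (ψ₀ : T → ℂ))) (θ₀ : N → ℂ) ≠ 0 := by
    refine over_trans hNT (isIrr_isCharacter hirr₀) ψ₀.2 θ₀.2 ?_ h₀
    rw [← classInner_indFun_right T _ (isIrr_isClassFunction hirr₀), classInner_irr_self hirr₀]
    exact one_ne_zero
  constructor
  · intro hχ
    -- a constituent of `χ` in `b`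
    obtain ⟨η, hη⟩ := Blocks.Fong.exists_constituent N χ
    obtain ⟨g, θ', hθ', h1⟩ := Cfsg.Agent.S0964.result p M hM N B hi.2.1 b hb ⟨_, hirr₀⟩ hmem₀
      θ₀ hθ₀ hcov₀ χ hχ η hη
    have h2 : η = conjIrr N g θ' := by
      apply Subtype.ext
      funext n
      rw [conjIrr_apply, conjNormal_eq]
      exact h1 n
    have h3 : classInner (res N (χ : G → ℂ)) (θ' : N → ℂ) ≠ 0 := by
      rw [← classInner_res_conjIrr (isIrr_isClassFunction χ.2) g θ', ← h2]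
      exact hη
    obtain ⟨ψ, hψ, hχψ⟩ := exists_ind hprime hb hst hNT hθ' h3
    refine ⟨ψ, ?_, hχψ⟩
    have hself : ψ ∈ blockOf M (ψ : T → ℂ) := Blocks.Basic.mem_blockOf_self ψ
    obtain ⟨hirr, hj⟩ := isInducedBlock_ind p hM hb hst hNT
      (Blocks.Basic.isPBlock_blockOf ψ) hself hθ' hψ hself
    have h4 : blockOf M (indFun T (ψ : T → ℂ)) = B := by
      rw [← hχψ]
      exact (Blocks.Basic.isPBlock_eq_blockOf hi.2.1 hχ).symm
    rw [h4] at hj
    have h5 := covered_inj p hM hb hst hNT hB' (Blocks.Basic.isPBlock_blockOf ψ) hψ₀ hθ₀ h₀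
      hself hθ' hψ hi hj
    rw [h5]
    exact hself
  · rintro ⟨ψ, hψ, hχψ⟩
    obtain ⟨hirr, hj⟩ := isInducedBlock_ind p hM hb hst hNT hB' hψ₀ hθ₀ h₀ hψ
    rw [induced_unique hi hj, ← hχψ]
    exact Blocks.Basic.mem_blockOf_self χ

end main

end Cfsg.Agent.H591.ReynoldsMain
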