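import Cfsg.Agent.OddOrderCharacters.PF9.CliffGen

/-!
# The Clifford correspondence for a subgroup containing the inertia group

`N` normal in the finite group `K`, `θ` an irreducible character of `N`, `T ≥ N` a subgroup of `K`
containing the inertia group of `θ`. Then induction is a bijection from the irreducible characters
of `T` over `θ` onto the irreducible characters of `K` over `θ`:

* `irr_ind`, `ind_inj`, `exists_ind`;
* `eq_of_over`: if `ψ ∈ Irr(T)` over `θ` induces `χ`, then `ψ` is the only irreducible constituent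
  of `χ_T` over `θ`, with multiplicity one.
-/

set_option autoImplicit false

open Cfsg
open scoped ComplexConjugate

namespace Cfsg.Agent.H591.Cliff

open Cfsg.Agent.Characters.Core Cfsg.Agent.OddOrderCharacters.IndRes
  Cfsg.Agent.OddOrderCharacters.NormalInduced Cfsg.Agent.OddOrderCharacters
open Cfsg.Agent.OddOrderCharacters.PF9.CliffGen (inertia mem_inertia le_inertia resTo resTo_apply
  down classInner_down indFun_down resTo_res)

universe u

variable {K : Type u} [Group K]

theorem conjFn_down {N T : Subgroup K} [hN : N.Normal] (hNT : N ≤ T) (θ : N → ℂ) (g : T) :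
    conjFn (N.subgroupOf T) (down N T θ) g = down N T θ ↔ conjFn N θ g = θ := by
  constructor
  · intro h
    funext n
    have := congrFun h ⟨⟨n, hNT n.2⟩, Subgroup.mem_subgroupOf.mpr n.2⟩
    exact this
  · intro h
    funext n
    have := congrFun h ⟨(n : T), Subgroup.mem_subgroupOf.mp n.2⟩
    exact this

/-- The equivalence between `N` and `N.subgroupOf T`, for `N ≤ T`. -/
theorem isIrr_down {N T : Subgroup K} (hNT : N ≤ T) {θ : N → ℂ} (hθ : IsIrrCharacter N θ) :
    IsIrrCharacter (N.subgroupOf T) (down N T θ) :=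
  isIrr_comp ((Subgroup.subgroupOfEquivOfLe hNT).toMonoidHom)
    (Subgroup.subgroupOfEquivOfLe hNT).surjective hθ

/-- Transport up of a function on `I.subgroupOf T`. -/
def up {I T : Subgroup K} (hIT : I ≤ T) (η : I.subgroupOf T → ℂ) : I → ℂ :=
  fun i => η ⟨⟨i, hIT i.2⟩, Subgroup.mem_subgroupOf.mpr i.2⟩

theorem down_up {I T : Subgroup K} (hIT : I ≤ T) (η : I.subgroupOf T → ℂ) :
    down I T (up hIT η) = η := rfl

theorem isIrr_up {I T : Subgroup K} (hIT : I ≤ T) {η : I.subgroupOf T → ℂ}
    (hη : IsIrrCharacter (I.subgroupOf T) η) : IsIrrCharacter I (up hIT η) :=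
  isIrr_comp ((Subgroup.subgroupOfEquivOfLe hIT).symm.toMonoidHom)
    (Subgroup.subgroupOfEquivOfLe hIT).symm.surjective hη

section corr

variable [Fintype K] {N T : Subgroup K} [hN : N.Normal] [Fintype N] [Fintype T]

omit [Fintype K] [Fintype N] [Fintype T] in
theorem hT_inertia_down (hNT : N ≤ T) {θ : N → ℂ} (g : T) :
    g ∈ (inertia N θ).subgroupOf T ↔ conjFn (N.subgroupOf T) (down N T θ) g = down N T θ := by
  rw [Subgroup.mem_subgroupOf, conjFn_down hNT]
  rfl

omit hN in
/-- The multiplicity of `θ` seen in `N` or in `N.subgroupOf T`. -/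
theorem classInner_down_res (hNT : N ≤ T) [Fintype (N.subgroupOf T)] (ψ : T → ℂ) (θ : N → ℂ) :
    classInner (res (N.subgroupOf T) ψ) (down N T θ) = classInner (resTo hNT ψ) θ := by
  have : res (N.subgroupOf T) ψ = down N T (resTo hNT ψ) := rfl
  rw [this, classInner_down hNT]

omit hN in
theorem classInner_down_resTo (hNT : N ≤ T) {I : Subgroup K} [Fintype (N.subgroupOf T)]
    (hNI : N ≤ I) (hNI' : N.subgroupOf T ≤ I.subgroupOf T) (η : I → ℂ) (θ : N → ℂ) :
    classInner (resTo hNI' (down I T η)) (down N T θ) = classInner (resTo hNI η) θ := by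
  have : resTo hNI' (down I T η) = down N T (resTo hNI η) := rfl
  rw [this, classInner_down hNT]

/-- Every irreducible character of `T` over `θ` is induced from the inertia group of `θ`. -/
theorem exists_from_inertia {θ : N → ℂ} (hθ : IsIrrCharacter N θ)
    (hT : ∀ g, conjFn N θ g = θ → g ∈ T) (hNT : N ≤ T) {ψ : T → ℂ} (hψ : IsIrrCharacter T ψ)
    (h0 : classInner (resTo hNT ψ) θ ≠ 0) :
    ∃ η : inertia N θ → ℂ, IsIrrCharacter (inertia N θ) η ∧
      classInner (resTo (le_inertia (isIrr_isClassFunction hθ)) η) θ ≠ 0 ∧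
      ψ = indFun ((inertia N θ).subgroupOf T) (down (inertia N θ) T η) := by
  classical
  have hIT : inertia N θ ≤ T := fun g hg => hT g hg
  have hNI : N ≤ inertia N θ := le_inertia (isIrr_isClassFunction hθ)
  have hNI' : N.subgroupOf T ≤ (inertia N θ).subgroupOf T := Subgroup.comap_mono hNI
  have : Fintype (N.subgroupOf T) := Fintype.ofFinite _
  have : Fintype ((inertia N θ).subgroupOf T) := Fintype.ofFinite _
  obtain ⟨η', hη', h1, h2⟩ := PF9.CliffGen.exists_ind (K := T) (N := N.subgroupOf T)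
    (T := (inertia N θ).subgroupOf T) (isIrr_down hNT hθ) (hT_inertia_down hNT) hNI' hψ
    (by rw [classInner_down_res hNT]; exact h0)
  refine ⟨up hIT η', isIrr_up hIT hη', ?_, by rw [down_up]; exact h2⟩
  rw [← classInner_down_resTo hNT hNI hNI', down_up]
  exact h1

/-- Clifford correspondence for `T` containing the inertia group: irreducibility. -/
theorem irr_ind {θ : N → ℂ} (hθ : IsIrrCharacter N θ) (hT : ∀ g, conjFn N θ g = θ → g ∈ T)
    (hNT : N ≤ T) {ψ : T → ℂ} (hψ : IsIrrCharacter T ψ) (h0 : classInner (resTo hNT ψ) θ ≠ 0) :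
    IsIrrCharacter K (indFun T ψ) := by
  classical
  have hIT : inertia N θ ≤ T := fun g hg => hT g hg
  have : Fintype (inertia N θ) := Fintype.ofFinite _
  obtain ⟨η, hη, h1, rfl⟩ := exists_from_inertia hθ hT hNT hψ h0
  rw [indFun_down hIT]
  exact PF9.CliffGen.irr_ind hθ (fun _ => Iff.rfl) _ hη h1

/-- Clifford correspondence for `T` containing the inertia group: injectivity. -/
theorem ind_inj {θ : N → ℂ} (hθ : IsIrrCharacter N θ) (hT : ∀ g, conjFn N θ g = θ → g ∈ T)
    (hNT : N ≤ T) {ψ ψ' : T → ℂ} (hψ : IsIrrCharacter T ψ) (hψ' : IsIrrCharacter T ψ')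
    (h0 : classInner (resTo hNT ψ) θ ≠ 0) (h0' : classInner (resTo hNT ψ') θ ≠ 0)
    (h : indFun T ψ = indFun T ψ') : ψ = ψ' := by
  classical
  have hIT : inertia N θ ≤ T := fun g hg => hT g hg
  have : Fintype (inertia N θ) := Fintype.ofFinite _
  obtain ⟨η, hη, h1, rfl⟩ := exists_from_inertia hθ hT hNT hψ h0
  obtain ⟨η', hη', h1', rfl⟩ := exists_from_inertia hθ hT hNT hψ' h0'
  rw [indFun_down hIT, indFun_down hIT] at h
  rw [PF9.CliffGen.ind_inj hθ (fun _ => Iff.rfl) _ hη hη' h1 h1' h]

/-- Clifford correspondence for `T` containing the inertia group: surjectivity. -/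
theorem exists_ind {θ : N → ℂ} (hθ : IsIrrCharacter N θ) (hT : ∀ g, conjFn N θ g = θ → g ∈ T)
    (hNT : N ≤ T) {χ : K → ℂ} (hχ : IsIrrCharacter K χ) (h0 : classInner (res N χ) θ ≠ 0) :
    ∃ ψ : T → ℂ, IsIrrCharacter T ψ ∧ classInner (resTo hNT ψ) θ ≠ 0 ∧ χ = indFun T ψ := by
  classical
  rw [← resTo_res hNT] at h0
  obtain ⟨ψ, hψ, h1, h2⟩ :=
    PF9.CliffGen.exists_constituent hNT (isCharacter_res T (isIrr_isCharacter hχ)) h0
  refine ⟨ψ, hψ, h2, ?_⟩
  have h3 := irr_ind hθ hT hNT hψ h2
  by_contra hne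
  have h4 := classInner_irr_ne hχ h3 hne
  rw [classInner_indFun_right T ψ (isIrr_isClassFunction hχ)] at h4
  exact h1 h4

/-- The multiplicity in `(Ind ψ)_T` of the irreducible characters of `T` over `θ`. -/
theorem classInner_res_ind {θ : N → ℂ} (hθ : IsIrrCharacter N θ)
    (hT : ∀ g, conjFn N θ g = θ → g ∈ T)
    (hNT : N ≤ T) {ψ η : T → ℂ} (hψ : IsIrrCharacter T ψ) (hη : IsIrrCharacter T η)
    (h0 : classInner (resTo hNT ψ) θ ≠ 0) (h0' : classInner (resTo hNT η) θ ≠ 0) [Decidable (ψ = η)] :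
    classInner (res T (indFun T ψ)) η = if ψ = η then 1 else 0 := by
  classical
  have h1 := irr_ind hθ hT hNT hψ h0
  have h2 := irr_ind hθ hT hNT hη h0'
  rw [← classInner_indFun_right T η (isIrr_isClassFunction h1)]
  split_ifs with h
  · rw [h]
    exact classInner_irr_self h2
  · exact classInner_irr_ne h1 h2 fun h3 => h (ind_inj hθ hT hNT hψ hη h0 h0' h3)

end corr

end Cfsg.Agent.H591.Cliff
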