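import Cfsg.Agent.Blocks.Basic
import Cfsg.Agent.Blocks.SylowIn
import Cfsg.Agent.S0906
import Cfsg.Agent.S0908
import Cfsg.Agent.S0911

/-!
# Blocks of a quotient group and defect groups

`N` normal in `G`; `Bbar` a block of `G ⧸ N` some member of which inflates into the block `B` of `G`.

* `centralChar_inflate`: the central character of an inflated character at `g` is
  `|K : C_G(g)|` times the central character at `g N`, `K` the preimage of `C_{G/N}(gN)`.
* `exists_conj_le_map`: a defect group of `Bbar` is contained in the image of a conjugate of any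
  given defect group of `B`.
-/

set_option autoImplicit false
open Cfsg

namespace Cfsg.Agent.H591.QuotDefect

open Cfsg.Agent.Blocks.Local Cfsg.Agent.Blocks.Basic Cfsg.Agent.Blocks.SylowIn

variable {G : Type*} [Group G]

/-- The centralizer of `g` maps into the centralizer of its image. -/
theorem centralizer_le_comap (N : Subgroup G) [N.Normal] (g : G) :
    Subgroup.centralizer ({g} : Set G) ≤
      (Subgroup.centralizer ({(QuotientGroup.mk g : G ⧸ N)} : Set (G ⧸ N))).comap
        (QuotientGroup.mk' N) := by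
  intro x hx
  rw [Subgroup.mem_comap, Subgroup.mem_centralizer_singleton_iff]
  rw [Subgroup.mem_centralizer_singleton_iff] at hx
  show (QuotientGroup.mk x : G ⧸ N) * QuotientGroup.mk g = QuotientGroup.mk g * QuotientGroup.mk x
  rw [← QuotientGroup.mk_mul, ← QuotientGroup.mk_mul, hx]

/-- The central character of an inflated character. -/
theorem centralChar_inflate (N : Subgroup G) [N.Normal] (χ : G ⧸ N → ℂ) (g : G) :
    centralChar (χ ∘ QuotientGroup.mk) g =
      ((Subgroup.centralizer ({g} : Set G)).relIndex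
        ((Subgroup.centralizer ({(QuotientGroup.mk g : G ⧸ N)} : Set (G ⧸ N))).comap
          (QuotientGroup.mk' N)) : ℂ) * centralChar χ (QuotientGroup.mk g) := by
  have h1 := Subgroup.relIndex_mul_index (centralizer_le_comap N g)
  have h2 : ((Subgroup.centralizer ({(QuotientGroup.mk g : G ⧸ N)} : Set (G ⧸ N))).comap
      (QuotientGroup.mk' N)).index =
      (Subgroup.centralizer ({(QuotientGroup.mk g : G ⧸ N)} : Set (G ⧸ N))).index :=
    Subgroup.index_comap_of_surjective _ (QuotientGroup.mk'_surjective N)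
  rw [h2] at h1
  rw [centralChar_def, centralChar_def, ← h1, Nat.cast_mul]
  show _ * χ (QuotientGroup.mk g) / χ (QuotientGroup.mk 1) = _
  rw [QuotientGroup.mk_one]
  ring

/-- A Sylow `p`-subgroup of `C_G(g)` maps onto a Sylow `p`-subgroup of `C_{G/N}(gN)` when `p` does
not divide `|K : C_G(g)|`. -/
theorem isSylowCentralizer_map [Finite G] {p : ℕ} [Fact p.Prime] (N : Subgroup G) [N.Normal]
    {g : G} {P : Subgroup G} (hP : IsSylowCentralizer p g P)
    (h : ¬ p ∣ (Subgroup.centralizer ({g} : Set G)).relIndex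
        ((Subgroup.centralizer ({(QuotientGroup.mk g : G ⧸ N)} : Set (G ⧸ N))).comap
          (QuotientGroup.mk' N))) :
    IsSylowCentralizer p (QuotientGroup.mk g : G ⧸ N) (P.map (QuotientGroup.mk' N)) := by
  set C := Subgroup.centralizer ({g} : Set G) with hC
  set K := (Subgroup.centralizer ({(QuotientGroup.mk g : G ⧸ N)} : Set (G ⧸ N))).comap
          (QuotientGroup.mk' N) with hK
  have hCK : C ≤ K := centralizer_le_comap N g
  have hPC : P ≤ C := le_centralizer_of_isSylowCentralizer hP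
  have hPp : IsPGroup p P := isPGroup_of_isSylowCentralizer hP
  -- `p` does not divide `|C : P|`
  have h1 : ¬ p ∣ P.relIndex C := by
    have h2 : Nat.card P = p ^ (Nat.card C).factorization p := card_of_sylow_map_eq (by
      obtain ⟨S, hS⟩ := hP
      exact ⟨S, hS.symm⟩)
    intro hd
    have h3 : Nat.card P * P.relIndex C = Nat.card C := by
      rw [← Subgroup.card_mul_index (P.subgroupOf C), Nat.card_congr
        (Subgroup.subgroupOfEquivOfLe hPC).toEquiv]
      rfl
    have h4 : p ^ ((Nat.card C).factorization p + 1) ∣ Nat.card C := by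
      rw [pow_succ, ← h2, ← h3]
      exact Nat.mul_dvd_mul_left _ hd
    have h5 := (Nat.Prime.pow_dvd_iff_le_factorization (Fact.out : p.Prime)
      (Nat.card_pos (α := C)).ne').1 h4
    omega
  have h2 : ¬ p ∣ P.relIndex K := by
    rw [← Subgroup.relIndex_mul_relIndex P C K hPC hCK]
    exact (Fact.out : p.Prime).not_dvd_mul h1 h
  -- the image
  set f := QuotientGroup.mk' N with hf
  have hKmap : K.map f = Subgroup.centralizer ({(QuotientGroup.mk g : G ⧸ N)} : Set (G ⧸ N)) :=
    Subgroup.map_comap_eq_self_of_surjective (QuotientGroup.mk'_surjective N) _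
  have h3 : ¬ p ∣ (P.map f).relIndex (K.map f) := by
    rw [← Subgroup.relIndex_comap]
    intro hd
    apply h2
    have hle : P ≤ (P.map f).comap f := Subgroup.le_comap_map f P
    have hle2 : (P.map f).comap f ≤ K := by
      intro x hx
      obtain ⟨y, hy, hxy⟩ := hx
      have h6 : f y ∈ Subgroup.centralizer ({(QuotientGroup.mk g : G ⧸ N)} : Set (G ⧸ N)) :=
        hCK (hPC hy)
      rw [hxy] at h6
      exact h6
    rw [← Subgroup.relIndex_mul_relIndex P _ K hle hle2]
    exact Dvd.dvd.mul_left hd _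
  rw [isSylowCentralizer_iff]
  refine ⟨hPp.map _, ?_, ?_⟩
  · rw [← hKmap]
    exact Subgroup.map_mono (hPC.trans hCK)
  · intro Q hQ hQC hPQ
    refine le_antisymm ?_ hPQ
    rw [← Subgroup.relIndex_eq_one]
    have h4 : (P.map f).relIndex Q ∣ (P.map f).relIndex (K.map f) := by
      rw [hKmap]
      rw [← Subgroup.relIndex_mul_relIndex _ _ _ hPQ hQC]
      exact Dvd.intro _ rfl
    obtain ⟨n, hn⟩ := hQ.index ((P.map f).subgroupOf Q)
    have h5 : (P.map f).relIndex Q = p ^ n := hn
    rw [h5] at h4 ⊢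
    rcases Nat.eq_zero_or_pos n with h0 | h0
    · rw [h0, pow_zero]
    · exact absurd ((dvd_pow_self p h0.ne').trans h4) h3

/-- **Defect groups of a block of `G ⧸ N` contained in a block of `G`.** -/
theorem exists_conj_le_map [Finite G] (p : ℕ) [Fact p.Prime] {M : Ideal AlgInt}
    (hM : IsPModular p M) (N : Subgroup G) [N.Normal] {Bbar : Set (IrrCharacter (G ⧸ N))}
    (hBbar : IsPBlock M Bbar) {B : Set (IrrCharacter G)}
    {χ : IrrCharacter (G ⧸ N)} (hχ : χ ∈ Bbar) {ψ : IrrCharacter G}
    (hψχ : (ψ : G → ℂ) = (χ : G ⧸ N → ℂ) ∘ QuotientGroup.mk) (hψ : ψ ∈ B)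
    {P : Subgroup G} (hP : IsDefectGroup p M B P) {Dbar : Subgroup (G ⧸ N)}
    (hD : IsDefectGroup p M Bbar Dbar) :
    ∃ z : G, Dbar ≤ (P.map (MulAut.conj z).toMonoidHom).map (QuotientGroup.mk' N) := by
  have hprime : M.IsPrime := isPrime_of_isPModular hM
  obtain ⟨g, hg, hPg⟩ := isDefectGroup_iff.1 hP
  have h1 := hg.2.2 ψ hψ
  rw [hψχ, centralChar_inflate] at h1
  have h2 : ¬ p ∣ (Subgroup.centralizer ({g} : Set G)).relIndex
        ((Subgroup.centralizer ({(QuotientGroup.mk g : G ⧸ N)} : Set (G ⧸ N))).comap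
          (QuotientGroup.mk' N)) := by
    intro hd
    apply h1
    exact memLocalIdeal_mul_right ((memLocalIdeal_natCast_iff hM _).2 hd)
      (Cfsg.Agent.Blocks.Osima.memLocalRing_centralChar hM χ.2 _)
  have h3 : ¬ MemLocalIdeal M (centralChar (χ : G ⧸ N → ℂ) (QuotientGroup.mk g)) := by
    intro hd
    apply h1
    exact memLocalIdeal_mul_left (memLocalRing_natCast _) hd
  have h4 := isSylowCentralizer_map N hPg h2
  obtain ⟨g0, hg0, P0, rfl⟩ := hD
  obtain ⟨x, Q, hxQ⟩ := (Cfsg.Agent.S0911.result p M hM Bbar hBbar g0 hg0 P0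
    (QuotientGroup.mk g)).2 ⟨χ, hχ, h3⟩
  have hQ : IsSylowCentralizer p (QuotientGroup.mk g : G ⧸ N)
    ((Q : Subgroup (Subgroup.centralizer ({(QuotientGroup.mk g : G ⧸ N)} : Set (G ⧸ N)))).map
      (Subgroup.centralizer ({(QuotientGroup.mk g : G ⧸ N)} : Set (G ⧸ N))).subtype) := ⟨Q, rfl⟩
  obtain ⟨y, -, hy⟩ := isSylowCentralizer_conj_of_isConj hQ h4 (IsConj.refl _)
  have h5 := Subgroup.map_mono (f := (MulAut.conj y).toMonoidHom) hxQ
  rw [map_conj_map_conj, ← hy] at h5
  have h6 := Subgroup.map_mono (f := (MulAut.conj (y * x)⁻¹).toMonoidHom) h5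
  rw [map_conj_map_conj, inv_mul_cancel, map_conj_one] at h6
  obtain ⟨z, hz⟩ := QuotientGroup.mk_surjective (y * x)⁻¹
  refine ⟨z, h6.trans (le_of_eq ?_)⟩
  rw [Subgroup.map_map, Subgroup.map_map]
  congr 1
  ext w
  show (y * x)⁻¹ * QuotientGroup.mk w * ((y * x)⁻¹)⁻¹ = (QuotientGroup.mk (z * w * z⁻¹) : G ⧸ N)
  rw [← hz, QuotientGroup.mk_mul, QuotientGroup.mk_mul, QuotientGroup.mk_inv]

end Cfsg.Agent.H591.QuotDefect
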